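import Mathlib

/-!
Extremely primitive groups: Manning's theorem (S3494) and first consequences. Owner: helper58.
-/

set_option autoImplicit false

namespace Cfsg.Agent.ExtPrim

open MulAction

variable {G : Type*} [Group G] {Ω : Type*} [MulAction G Ω]

/-- invariant equivalence relations of a primitive action are trivial -/
theorem setoid_trivial (hprim : IsPreprimitive G Ω) (r : Setoid Ω)
    (hr : ∀ (g : G) (x y : Ω), r x y → r (g • x) (g • y)) :
    (∀ x y, r x y) ∨ (∀ x y, r x y → x = y) := by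
  have hblock : ∀ a : Ω, IsBlock G {x | r x a} := by
    intro a
    rw [isBlock_iff_smul_eq_of_mem]
    intro g x hx hgx
    have h1 : r (g • a) a := r.trans (r.symm (hr g x a hx)) hgx
    ext y
    rw [Set.mem_smul_set_iff_inv_smul_mem]
    constructor
    · intro h
      have := hr g _ _ h
      rw [smul_inv_smul] at this
      exact r.trans this h1
    · intro h
      have h2 : r y (g • a) := r.trans h (r.symm h1)
      have := hr g⁻¹ _ _ h2
      rwa [inv_smul_smul] at this
  by_cases h : ∃ a : Ω, {x | r x a} = Set.univ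
  · left
    obtain ⟨a, ha⟩ := h
    intro x y
    have hx : x ∈ {x | r x a} := by rw [ha]; trivial
    have hy : y ∈ {x | r x a} := by rw [ha]; trivial
    exact r.trans hx (r.symm hy)
  · right
    push Not at h
    intro x y hxy
    rcases (hprim.isTrivialBlock_of_isBlock (hblock y)) with h1 | h1
    · exact h1 hxy (r.refl y)
    · exact absurd h1 (h y)

/-- the hypothesis of extreme primitivity -/
def IsEP (G : Type*) [Group G] (Ω : Type*) [MulAction G Ω] : Prop :=
  ∀ (α : Ω) (ω : Ω), IsPreprimitive (stabilizer G α) (orbit (stabilizer G α) ω)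

/-- membership in a suborbit -/
theorem mem_suborbit {α ω x : Ω} : x ∈ orbit (stabilizer G α) ω ↔ ∃ g : G, g • α = α ∧ g • ω = x := by
  constructor
  · rintro ⟨⟨g, hg⟩, rfl⟩
    exact ⟨g, hg, rfl⟩
  · rintro ⟨g, hg, rfl⟩
    exact ⟨⟨g, hg⟩, rfl⟩

/-- A normal subgroup of a point stabilizer is trivial or transitive on each suborbit. -/
theorem suborbit_dichotomy (hep : IsEP G Ω) (α δ : Ω) (M : Subgroup G)
    (hM : M ≤ stabilizer G α) (hMn : stabilizer G α ≤ Subgroup.normalizer (M : Set G))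
    (hne : ∃ m ∈ M, ∃ x ∈ orbit (stabilizer G α) δ, m • x ≠ x) :
    ∀ x ∈ orbit (stabilizer G α) δ, ∀ y ∈ orbit (stabilizer G α) δ, ∃ m ∈ M, m • x = y := by
  have hp := hep α δ
  have hn : (M.subgroupOf (stabilizer G α)).Normal := by
    constructor
    rintro ⟨m, hm1⟩ hm ⟨g, hg⟩
    exact (Subgroup.mem_normalizer_iff.1 (hMn hg) m).1 hm
  have hq : IsQuasiPreprimitive (stabilizer G α) (orbit (stabilizer G α) δ) := inferInstance
  have ht := hq.isPretransitive_of_normal (N := M.subgroupOf (stabilizer G α)) (by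
    obtain ⟨m, hm, x, hx, hmx⟩ := hne
    intro h
    have h1 : (⟨x, hx⟩ : orbit (stabilizer G α) δ) ∈
        fixedPoints (M.subgroupOf (stabilizer G α)) (orbit (stabilizer G α) δ) := by
      rw [h]; trivial
    have h2 := h1 ⟨⟨m, hM hm⟩, hm⟩
    exact hmx (congrArg Subtype.val h2))
  intro x hx y hy
  obtain ⟨⟨⟨m, hm1⟩, hm⟩, h⟩ := ht.exists_smul_eq ⟨x, hx⟩ ⟨y, hy⟩
  exact ⟨m, hm, congrArg Subtype.val h⟩

/-- the pointwise stabilizer of the suborbit of `β` under the stabilizer of `α` -/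
def kSub (G : Type*) [Group G] {Ω : Type*} [MulAction G Ω] (α β : Ω) : Subgroup G where
  carrier := {g | g • α = α ∧ ∀ x ∈ orbit (stabilizer G α) β, g • x = x}
  mul_mem' {a b} ha hb := ⟨by rw [mul_smul, hb.1, ha.1], fun x hx => by
    rw [mul_smul, hb.2 x hx, ha.2 x hx]⟩
  one_mem' := ⟨one_smul _ _, fun x _ => one_smul _ x⟩
  inv_mem' {a} ha := ⟨by rw [inv_smul_eq_iff, ha.1], fun x hx => by
    rw [inv_smul_eq_iff, ha.2 x hx]⟩

theorem mem_kSub {α β : Ω} {g : G} :
    g ∈ kSub G α β ↔ g • α = α ∧ ∀ x ∈ orbit (stabilizer G α) β, g • x = x := Iff.rfl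

theorem kSub_le (α β : Ω) : kSub G α β ≤ stabilizer G α := fun _ hg => hg.1

theorem kSub_le' (α β : Ω) : kSub G α β ≤ stabilizer G β :=
  fun _ hg => hg.2 β (mem_orbit_self β)

theorem conj_mem_kSub {α β : Ω} {g h : G} (hg : g ∈ kSub G α β) (hh : h • α = α) :
    h * g * h⁻¹ ∈ kSub G α β := by
  refine ⟨?_, ?_⟩
  · rw [mul_smul, mul_smul, inv_smul_eq_iff.2 hh.symm, hg.1, hh]
  · intro x hx
    rw [mul_smul, mul_smul, hg.2, smul_inv_smul]
    obtain ⟨k, hk, rfl⟩ := mem_suborbit.1 hx
    rw [mem_suborbit]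
    refine ⟨h⁻¹ * k, ?_, by rw [mul_smul]⟩
    rw [mul_smul, hk, inv_smul_eq_iff, hh]

theorem stabilizer_le_normalizer_kSub (α β : Ω) :
    stabilizer G α ≤ Subgroup.normalizer (kSub G α β : Set G) := by
  intro h hh
  rw [Subgroup.mem_normalizer_iff]
  intro g
  constructor
  · intro hg; exact conj_mem_kSub hg hh
  · intro hg
    have h1 : h⁻¹ • α = α := by rw [inv_smul_eq_iff]; exact (hh : h • α = α).symm
    have := conj_mem_kSub hg h1
    have h2 : h⁻¹ * (h * g * h⁻¹) * h⁻¹⁻¹ = g := by group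
    rwa [h2] at this

variable [Finite Ω]

/-- The key step of Manning's theorem. -/
theorem kSub_le_kSub (hprim : IsPreprimitive G Ω) (hep : IsEP G Ω) {α β : Ω} (hαβ : α ≠ β) :
    kSub G α β ≤ kSub G β α := by
  by_contra hnot
  obtain ⟨m, hm, hm'⟩ := SetLike.not_le_iff_exists.1 hnot
  have hmβ : m • β = β := kSub_le' α β hm
  -- a point of the β-suborbit of α moved by m
  obtain ⟨δ, hδ, hmδ⟩ : ∃ δ ∈ orbit (stabilizer G β) α, m • δ ≠ δ := by
    by_contra h
    push Not at h
    exact hm' ⟨hmβ, h⟩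
  have hδα : δ ≠ α := by
    rintro rfl
    exact hmδ hm.1
  -- transitivity of kSub α β on the α-suborbit of δ
  have htr := suborbit_dichotomy hep α δ (kSub G α β) (kSub_le α β)
    (stabilizer_le_normalizer_kSub α β) ⟨m, hm, δ, mem_orbit_self δ, hmδ⟩
  -- the α-suborbit of δ is contained in the β-suborbit of α
  have hsub : ∀ x ∈ orbit (stabilizer G α) δ, x ∈ orbit (stabilizer G β) α := by
    intro x hx
    obtain ⟨k, hk, rfl⟩ := htr δ (mem_orbit_self δ) x hx
    obtain ⟨g, hg, rfl⟩ := mem_suborbit.1 hδ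
    rw [mem_suborbit]
    exact ⟨k * g, by rw [mul_smul, hg, kSub_le' α β hk], by rw [mul_smul]⟩
  -- define Γ x
  let Γ : Ω → Set Ω := fun x => {y | ∃ g : G, g • α = x ∧ g • β = y}
  have hΓsmul : ∀ (g : G) (x : Ω), Γ (g • x) = (fun y => g • y) '' Γ x := by
    intro g x
    ext y
    constructor
    · rintro ⟨h, h1, h2⟩
      refine ⟨g⁻¹ • y, ⟨g⁻¹ * h, ?_, ?_⟩, smul_inv_smul g y⟩
      · rw [mul_smul, h1, inv_smul_smul]
      · rw [mul_smul, h2]
    · rintro ⟨z, ⟨h, h1, h2⟩, rfl⟩
      exact ⟨g * h, by rw [mul_smul, h1], by rw [mul_smul, h2]⟩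
  -- Γ α ⊆ Γ δ
  have hΓsub : Γ α ⊆ Γ δ := by
    rintro y ⟨h, h1, rfl⟩
    -- h ∈ G_α ; h⁻¹ δ in the α-suborbit of δ
    have h2 : h⁻¹ • δ ∈ orbit (stabilizer G α) δ := by
      rw [mem_suborbit]
      exact ⟨h⁻¹, by rw [inv_smul_eq_iff, h1], rfl⟩
    obtain ⟨g, hg1, hg2⟩ := mem_suborbit.1 (hsub _ h2)
    refine ⟨h * g, ?_, ?_⟩
    · rw [mul_smul, hg2, smul_inv_smul]
    · rw [mul_smul, hg1]
  have htrans := hprim.toIsPretransitive
  have hcard : ∀ x : Ω, (Γ x).ncard = (Γ α).ncard := by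
    intro x
    obtain ⟨g, rfl⟩ := htrans.exists_smul_eq α x
    rw [hΓsmul]
    exact Set.ncard_image_of_injective _ (MulAction.injective g)
  have hΓeq : Γ δ = Γ α := by
    symm
    apply Set.eq_of_subset_of_ncard_le hΓsub (by rw [hcard δ]) (Set.toFinite _)
  -- the equivalence relation
  let r : Setoid Ω := ⟨fun x y => Γ x = Γ y, ⟨fun _ => rfl, fun h => h.symm, fun h h' => h.trans h'⟩⟩
  rcases setoid_trivial hprim r (by
    intro g x y hxy
    show Γ (g • x) = Γ (g • y)
    rw [hΓsmul, hΓsmul, show Γ x = Γ y from hxy]) with h | h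
  · -- everything related
    have h1 : ∀ x y, Γ x = Γ y := h
    have hβ : β ∈ Γ α := ⟨1, one_smul _ _, one_smul _ _⟩
    obtain ⟨g, hg⟩ := htrans.exists_smul_eq β α
    have h2 : α ∈ Γ α := by
      rw [h1 α (g • α), hΓsmul]
      exact ⟨β, hβ, hg⟩
    obtain ⟨k, hk1, hk2⟩ := h2
    apply hαβ
    exact MulAction.injective k (hk1.trans hk2.symm)
  · exact hδα (h δ α hΓeq)

theorem kSub_eq (hprim : IsPreprimitive G Ω) (hep : IsEP G Ω) {α β : Ω} (hαβ : α ≠ β) :
    kSub G α β = kSub G β α :=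
  le_antisymm (kSub_le_kSub hprim hep hαβ) (kSub_le_kSub hprim hep hαβ.symm)

omit [Finite Ω] in
/-- normal subgroup contained in a point stabilizer is trivial -/
theorem eq_bot_of_normal_of_le_stabilizer [FaithfulSMul G Ω] [IsPretransitive G Ω] (M : Subgroup G)
    [hM : M.Normal] {α : Ω} (h : M ≤ stabilizer G α) : M = ⊥ := by
  rw [Subgroup.eq_bot_iff_forall]
  intro m hm
  apply FaithfulSMul.eq_of_smul_eq_smul (α := Ω)
  intro x
  obtain ⟨g, rfl⟩ := exists_smul_eq G α x
  have h1 : g⁻¹ * m * g ∈ M := by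
    have := hM.conj_mem m hm g⁻¹
    rwa [inv_inv] at this
  have h2 : (g⁻¹ * m * g) • α = α := h h1
  rw [one_smul]
  rw [mul_smul, mul_smul, inv_smul_eq_iff] at h2
  exact h2

omit [Finite Ω] in
theorem nontrivial_of_ne {α β : Ω} (h : α ≠ β) : Nontrivial Ω := ⟨⟨α, β, h⟩⟩

omit [Finite Ω] in
/-- in a primitive, non-regular action distinct points have distinct stabilizers -/
theorem stabilizer_injective [Finite G] [FaithfulSMul G Ω] (hprim : IsPreprimitive G Ω) {α β : Ω}
    (hH : stabilizer G α ≠ ⊥) (hαβ : α ≠ β) : ¬ stabilizer G α ≤ stabilizer G β := by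
  intro hle
  have hnt := nontrivial_of_ne hαβ
  have hco : IsCoatom (stabilizer G α) := hprim.isCoatom_stabilizer_of_isPreprimitive G α
  have hco' : IsCoatom (stabilizer G β) := hprim.isCoatom_stabilizer_of_isPreprimitive G β
  have heq : stabilizer G α = stabilizer G β := by
    rcases hco.le_iff.1 hle with h | h
    · exact absurd h hco'.1
    · exact h.symm
  obtain ⟨g, hg⟩ := exists_smul_eq G α β
  have hnorm : Subgroup.normalizer (stabilizer G α : Set G) = ⊤ := by
    rcases hco.le_iff.1 (Subgroup.le_normalizer (H := stabilizer G α)) with h | h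
    · exact h
    · exfalso
      have hg' : g ∈ Subgroup.normalizer (stabilizer G α : Set G) := by
        rw [Subgroup.mem_normalizer_iff]
        intro x
        have h1 : stabilizer G (g • α) = stabilizer G α := by rw [hg, heq]
        constructor
        · intro hx
          have : (g * x * g⁻¹) • (g • α) = g • α := by
            rw [mul_smul, mul_smul, inv_smul_smul, show x • α = α from hx]
          have h2 : g * x * g⁻¹ ∈ stabilizer G (g • α) := this
          rwa [h1] at h2
        · intro hx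
          have h2 : g * x * g⁻¹ ∈ stabilizer G (g • α) := by rw [h1]; exact hx
          have h3 : (g * x * g⁻¹) • (g • α) = g • α := h2
          rw [mul_smul, mul_smul, inv_smul_smul] at h3
          exact MulAction.injective g h3
      rw [h] at hg'
      have : g • α = α := hg'
      exact hαβ (this.symm.trans hg)
  have hN : (stabilizer G α).Normal := Subgroup.normalizer_eq_top_iff.1 hnorm
  exact hH (eq_bot_of_normal_of_le_stabilizer (stabilizer G α) le_rfl)

/-- **Manning's theorem** -/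
theorem kSub_eq_bot [Finite G] [FaithfulSMul G Ω] (hprim : IsPreprimitive G Ω)
    (hH : ∀ α : Ω, stabilizer G α ≠ ⊥) (hep : IsEP G Ω) {α β : Ω} (hαβ : α ≠ β) :
    kSub G α β = ⊥ := by
  have hnt := nontrivial_of_ne hαβ
  have hco : IsCoatom (stabilizer G α) := hprim.isCoatom_stabilizer_of_isPreprimitive G α
  have hn : Subgroup.normalizer (kSub G α β : Set G) = ⊤ := by
    rcases hco.le_iff.1 (stabilizer_le_normalizer_kSub α β) with h | h
    · exact h
    · exfalso
      have h1 := stabilizer_le_normalizer_kSub (G := G) β α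
      rw [← kSub_eq hprim hep hαβ, h] at h1
      exact stabilizer_injective hprim (hH β) hαβ.symm h1
  have hN : (kSub G α β).Normal := Subgroup.normalizer_eq_top_iff.1 hn
  exact eq_bot_of_normal_of_le_stabilizer (kSub G α β) (kSub_le α β)

/-- A nontrivial normal subgroup of a point stabilizer is transitive on every nontrivial
suborbit. -/
theorem transitive_on_suborbit [Finite G] [FaithfulSMul G Ω] (hprim : IsPreprimitive G Ω)
    (hH : ∀ α : Ω, stabilizer G α ≠ ⊥) (hep : IsEP G Ω) {α β : Ω} (hαβ : α ≠ β) (M : Subgroup G)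
    (hM : M ≤ stabilizer G α) (hMn : stabilizer G α ≤ Subgroup.normalizer (M : Set G))
    (hM1 : M ≠ ⊥) :
    ∀ x ∈ orbit (stabilizer G α) β, ∀ y ∈ orbit (stabilizer G α) β, ∃ m ∈ M, m • x = y := by
  apply suborbit_dichotomy hep α β M hM hMn
  by_contra h
  push Not at h
  apply hM1
  rw [eq_bot_iff, ← kSub_eq_bot hprim hH hep hαβ]
  intro m hm
  exact ⟨hM hm, h m hm⟩

/-- orbits of a nontrivial normal subgroup of `G_α` are the suborbits -/
theorem orbit_eq_of_normal [Finite G] [FaithfulSMul G Ω] (hprim : IsPreprimitive G Ω)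
    (hH : ∀ α : Ω, stabilizer G α ≠ ⊥) (hep : IsEP G Ω) (α : Ω) (M : Subgroup G)
    (hM : M ≤ stabilizer G α) (hMn : stabilizer G α ≤ Subgroup.normalizer (M : Set G))
    (hM1 : M ≠ ⊥) (ω : Ω) : orbit M ω = orbit (stabilizer G α) ω := by
  ext x
  constructor
  · rintro ⟨⟨m, hm⟩, rfl⟩
    exact ⟨⟨m, hM hm⟩, rfl⟩
  · intro hx
    by_cases hω : α = ω
    · subst hω
      obtain ⟨⟨g, hg⟩, rfl⟩ := hx
      show g • α ∈ orbit M α
      rw [show g • α = α from hg]
      exact mem_orbit_self α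
    · obtain ⟨m, hm, h⟩ := transitive_on_suborbit hprim hH hep hω M hM hMn hM1 ω
        (mem_orbit_self ω) x hx
      exact ⟨⟨m, hm⟩, h⟩

end Cfsg.Agent.ExtPrim
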