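import Mathlib
import Cfsg.Agent.ExtPrim.Manning
import Cfsg.Agent.ExtPrim.PrimNormal

/-!
Extremely primitive groups: the action of a point stabilizer on a suborbit. Owner: helper58.
-/

set_option autoImplicit false

namespace Cfsg.Agent.ExtPrim

open MulAction

variable {G : Type*} [Group G] {Ω : Type*} [MulAction G Ω]

theorem stabilizer_ne_bot_all [IsPretransitive G Ω] {α : Ω} (h : stabilizer G α ≠ ⊥) :
    ∀ β : Ω, stabilizer G β ≠ ⊥ := by
  intro β hβ
  apply h
  obtain ⟨g, rfl⟩ := exists_smul_eq G β α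
  rw [Subgroup.eq_bot_iff_forall] at hβ ⊢
  intro x hx
  have h1 : g⁻¹ * x * g ∈ stabilizer G β := by
    show (g⁻¹ * x * g) • β = β
    rw [mul_smul, mul_smul, show x • g • β = g • β from hx, inv_smul_smul]
  have h2 := hβ _ h1
  calc x = g * (g⁻¹ * x * g) * g⁻¹ := by group
    _ = 1 := by rw [h2]; group

/-- the point stabilizer is faithful on nontrivial suborbits -/
theorem faithful_suborbit [Finite G] [Finite Ω] [FaithfulSMul G Ω] (hprim : IsPreprimitive G Ω)
    (hH : ∀ α : Ω, stabilizer G α ≠ ⊥) (hep : IsEP G Ω) {α β : Ω} (hαβ : α ≠ β) :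
    FaithfulSMul (stabilizer G α) (orbit (stabilizer G α) β) := by
  constructor
  intro g h hgh
  have h1 : ((h⁻¹ * g : stabilizer G α) : G) ∈ kSub G α β := by
    refine ⟨(h⁻¹ * g).2, ?_⟩
    intro x hx
    have h2 := congrArg Subtype.val (hgh ⟨x, hx⟩)
    have h3 : (g : G) • x = (h : G) • x := h2
    show ((h : G)⁻¹ * (g : G)) • x = x
    rw [mul_smul, h3, inv_smul_smul]
  rw [kSub_eq_bot hprim hH hep hαβ, Subgroup.mem_bot] at h1
  have h4 : h⁻¹ * g = 1 := Subtype.ext h1
  rw [inv_mul_eq_one] at h4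
  exact h4.symm

theorem nontrivial_suborbit [Finite G] [FaithfulSMul G Ω] (hprim : IsPreprimitive G Ω)
    {α β : Ω} (hH : stabilizer G α ≠ ⊥) (hαβ : α ≠ β) :
    Nontrivial (orbit (stabilizer G α) β) := by
  have h := stabilizer_injective hprim hH hαβ
  obtain ⟨g, hg, hg'⟩ := SetLike.not_le_iff_exists.1 h
  refine ⟨⟨⟨β, mem_orbit_self β⟩, ⟨g • β, ⟨⟨g, hg⟩, rfl⟩⟩, ?_⟩⟩
  intro h2
  exact hg' (congrArg Subtype.val h2).symm

/-- a finite group in which the trivial subgroup is maximal has prime order -/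
theorem card_prime_of_isCoatom_bot {H : Type*} [Group H] [Finite H]
    (h : IsCoatom (⊥ : Subgroup H)) : (Nat.card H).Prime := by
  have hnt : Nontrivial H := by
    by_contra hn
    rw [not_nontrivial_iff_subsingleton] at hn
    exact h.1 (Subsingleton.elim _ _)
  obtain ⟨p, hp, hpH⟩ := Nat.exists_prime_and_dvd (n := Nat.card H) (by
    rw [← Finite.one_lt_card_iff_nontrivial] at hnt; omega)
  have : Fact p.Prime := ⟨hp⟩
  obtain ⟨x, hx⟩ := exists_prime_orderOf_dvd_card' p hpH
  have h1 : Subgroup.zpowers x = ⊤ := by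
    apply h.2
    rw [bot_lt_iff_ne_bot]
    intro h2
    have : x = 1 := by rwa [Subgroup.zpowers_eq_bot] at h2
    rw [this, orderOf_one] at hx
    exact hp.one_lt.ne hx
  have h2 : Nat.card H = p := by
    rw [← Subgroup.card_top (G := H), ← h1, Nat.card_zpowers, hx]
  rw [h2]; exact hp

/-- stabilizers in the suborbits are nontrivial when the order of `G_α` is not prime -/
theorem stabilizer_suborbit_ne_bot [Finite G] [FaithfulSMul G Ω]
    (hprim : IsPreprimitive G Ω) (hep : IsEP G Ω) {α β : Ω} (hH : stabilizer G α ≠ ⊥)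
    (hHp : ¬ (Nat.card (stabilizer G α)).Prime) (hαβ : α ≠ β)
    (δ : orbit (stabilizer G α) β) : stabilizer (stabilizer G α) δ ≠ ⊥ := by
  intro h
  apply hHp
  have hnt := nontrivial_suborbit hprim hH hαβ
  have hp := hep α β
  have h1 : IsCoatom (stabilizer (stabilizer G α) δ) :=
    hp.isCoatom_stabilizer_of_isPreprimitive (stabilizer G α) δ
  rw [h] at h1
  exact card_prime_of_isCoatom_bot h1

/-- divisibility for a subgroup of `G_α` acting semiregularly off `α` -/
theorem card_dvd_of_semiregular [Finite Ω] {α : Ω} (F : Subgroup (stabilizer G α))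
    (h : ∀ x : Ω, x ≠ α → ∀ f ∈ F, f • x = x → f = 1) :
    Nat.card F ∣ Nat.card Ω - 1 := by
  rw [← SubMulAction.nat_card_ofStabilizer_eq G α]
  have h1 : ∀ b : SubMulAction.ofStabilizer G α, stabilizer F b = ⊥ := by
    rintro ⟨b, hb⟩
    rw [Subgroup.eq_bot_iff_forall]
    rintro ⟨f, hf⟩ hfb
    apply Subtype.ext
    exact h b hb f hf (congrArg Subtype.val hfb)
  rw [Nat.card_congr (selfEquivOrbitsQuotientProd h1), Nat.card_prod]
  exact dvd_mul_left _ _

end Cfsg.Agent.ExtPrim
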