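import Cfsg.Agent.H59.PrimComp2

set_option autoImplicit false
set_option linter.style.haveILetI false

/-! Derangements forming one conjugacy class (S3501). -/

namespace Cfsg.Agent.ExtPrim

open MulAction Cfsg.Agent.H59
open scoped Pointwise

variable {G Ω : Type*} [Group G] [MulAction G Ω]

/-- sharply 2-transitive: the derangements form one class -/
theorem oneClass_of_sharp [Finite G] [Fintype Ω] [FaithfulSMul G Ω] (hΩ : 2 ≤ Fintype.card Ω)
    (h2 : ∀ {a b c d : Ω} (_ : a ≠ b) (_ : c ≠ d), ∃ g : G, g • a = c ∧ g • b = d)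
    (hs : ∀ g : G, g ≠ 1 → ∀ a b : Ω, a ≠ b → g • a = a → g • b ≠ b)
    (d e : G) (hd : ∀ ω : Ω, d • ω ≠ ω) (he : ∀ ω : Ω, e • ω ≠ ω) :
    ConjClasses.mk d = ConjClasses.mk e := by
  classical
  haveI := Fintype.ofFinite G
  obtain ⟨a, b, hab⟩ := Fintype.exists_pair_of_one_lt_card (by omega : 1 < Fintype.card Ω)
  haveI htr : IsPretransitive G Ω := by
    constructor
    intro x y
    by_cases hx : ∃ z, z ≠ x ∧ z ≠ y
    · obtain ⟨z, hz1, hz2⟩ := hx
      obtain ⟨g, hg, -⟩ := h2 hz1.symm hz2.symm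
      exact ⟨g, hg⟩
    · by_cases hxy : x = y
      · exact ⟨1, by rw [one_smul, hxy]⟩
      · obtain ⟨g, hg, -⟩ := h2 hxy (Ne.symm hxy)
        exact ⟨g, hg⟩
  haveI : Nonempty Ω := ⟨a⟩
  -- counting
  have hB := burnside_nat G Ω
  rw [card_orbits_of_pretransitive, one_mul] at hB
  set D : Finset G := Finset.univ.filter (fun g : G => ∀ ω : Ω, g • ω ≠ ω) with hD
  have hfix : ∀ g : G, g ≠ 1 → Nat.card (fixedBy Ω g) + (if g ∈ D then 1 else 0) = 1 := by
    intro g hg
    by_cases hgD : g ∈ D
    · rw [if_pos hgD]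
      have : IsEmpty (fixedBy Ω g) := ⟨fun x => (Finset.mem_filter.mp hgD).2 x.1 x.2⟩
      rw [Nat.card_of_isEmpty]
    · rw [if_neg hgD]
      have h3 : ∃ ω : Ω, g • ω = ω := by
        by_contra hcon
        push Not at hcon
        exact hgD (Finset.mem_filter.mpr ⟨Finset.mem_univ _, hcon⟩)
      obtain ⟨ω, hω⟩ := h3
      have : Nat.card (fixedBy Ω g) = 1 := by
        rw [Nat.card_eq_one_iff_unique]
        refine ⟨⟨fun x y => ?_⟩, ⟨⟨ω, hω⟩⟩⟩
        by_contra hxy
        exact hs g hg x.1 y.1 (fun h => hxy (Subtype.ext h)) x.2 y.2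
      omega
  have h1 : Nat.card (fixedBy Ω (1 : G)) = Fintype.card Ω := by
    rw [fixedBy_one_eq_univ, Nat.card_univ, Nat.card_eq_fintype_card]
  have h1D : (1 : G) ∉ D := by
    intro h
    exact (Finset.mem_filter.mp h).2 a (one_smul G a)
  have hDsum : ∑ g ∈ Finset.univ.erase (1 : G), (if g ∈ D then 1 else 0) = D.card := by
    rw [Finset.sum_ite_mem, Finset.sum_const, smul_eq_mul, mul_one]
    congr 1
    ext x
    simp only [Finset.mem_inter, Finset.mem_erase, Finset.mem_univ, and_true, ne_eq]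
    constructor
    · exact fun h => h.2
    · intro h
      exact ⟨fun h' => h1D (h' ▸ h), h⟩
  have hsum : ∑ g ∈ Finset.univ.erase (1 : G), (Nat.card (fixedBy Ω g) + (if g ∈ D then 1 else 0)) =
      Fintype.card G - 1 := by
    rw [Finset.sum_congr rfl (fun g hg => hfix g (Finset.ne_of_mem_erase hg)), Finset.sum_const,
      smul_eq_mul, mul_one, Finset.card_erase_of_mem (Finset.mem_univ _), Finset.card_univ]
  rw [Finset.sum_add_distrib, hDsum] at hsum
  rw [← Finset.add_sum_erase _ _ (Finset.mem_univ (1 : G)), h1, Nat.card_eq_fintype_card] at hB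
  have hGpos : 0 < Fintype.card G := Fintype.card_pos
  have hDcard : D.card = Fintype.card Ω - 1 := by omega
  -- order of `G`
  have hGcard : Fintype.card Ω * (Fintype.card Ω - 1) ≤ Fintype.card G := by
    have hsurj : (Finset.univ.offDiag : Finset (Ω × Ω)) ⊆
        Finset.univ.image (fun g : G => (g • a, g • b)) := by
      rintro ⟨x, y⟩ hxy
      rw [Finset.mem_offDiag] at hxy
      obtain ⟨g, hg1, hg2⟩ := h2 hab hxy.2.2
      rw [Finset.mem_image]
      exact ⟨g, Finset.mem_univ _, by rw [hg1, hg2]⟩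
    have h4 := Finset.card_le_card hsurj
    have h5 := Finset.card_image_le (s := (Finset.univ : Finset G)) (f := fun g : G => (g • a, g • b))
    rw [Finset.offDiag_card, Finset.card_univ] at h4
    rw [Finset.card_univ] at h5
    rw [Nat.mul_sub, mul_one]
    omega
  -- the class of a derangement
  have hcl : ∀ x : G, (∀ ω : Ω, x • ω ≠ ω) →
      Finset.univ.filter (fun g : G => IsConj x g) = D := by
    intro x hx
    have hsub : Finset.univ.filter (fun g : G => IsConj x g) ⊆ D := by
      intro g hg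
      obtain ⟨c, hc⟩ := isConj_iff.mp (Finset.mem_filter.mp hg).2
      refine Finset.mem_filter.mpr ⟨Finset.mem_univ _, fun ω hω => ?_⟩
      apply hx (c⁻¹ • ω)
      rw [← hc] at hω
      rw [← mul_smul]
      rw [eq_inv_smul_iff, ← mul_smul, ← mul_assoc]
      exact hω
    apply Finset.eq_of_subset_of_card_le hsub
    rw [hDcard]
    have hcent : Nat.card (Subgroup.centralizer ({x} : Set G)) ≤ Fintype.card Ω := by
      rw [← Nat.card_eq_fintype_card (α := Ω)]
      apply Nat.card_le_card_of_injective (fun c : Subgroup.centralizer ({x} : Set G) => (c : G) • a)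
      intro c c' hcc
      have hcc' : (c : G) • a = (c' : G) • a := hcc
      have h6 : ((c'⁻¹ * c : Subgroup.centralizer ({x} : Set G)) : G) • a = a := by
        rw [Subgroup.coe_mul, mul_smul, hcc', ← mul_smul, Subgroup.coe_inv, inv_mul_cancel, one_smul]
      have h7 := Subgroup.mem_centralizer_iff.mp (c'⁻¹ * c).2 x rfl
      have h8 : ((c'⁻¹ * c : Subgroup.centralizer ({x} : Set G)) : G) • (x • a) = x • a := by
        rw [← mul_smul, ← h7, mul_smul, h6]
      by_contra hne
      have h9 : ((c'⁻¹ * c : Subgroup.centralizer ({x} : Set G)) : G) ≠ 1 := by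
        intro h
        apply hne
        have : (c'⁻¹ * c) = 1 := Subtype.ext h
        exact (inv_mul_eq_one.mp this).symm
      exact hs _ h9 a (x • a) (hx a).symm h6 h8
    have horb : (Finset.univ.filter (fun g : G => IsConj x g)).card *
        Nat.card (Subgroup.centralizer ({x} : Set G)) = Fintype.card G := by
      have h10 := MulAction.card_orbit_mul_card_stabilizer_eq_card_group (ConjAct G) x
      have h11 : Fintype.card (orbit (ConjAct G) x) =
          (Finset.univ.filter (fun g : G => IsConj x g)).card := by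
        rw [← Set.toFinset_card]
        congr 1
        ext g
        rw [Set.mem_toFinset, ConjAct.mem_orbit_conjAct, Finset.mem_filter]
        simp only [Finset.mem_univ, true_and]
        exact isConj_comm
      rw [h11, ConjAct.card] at h10
      rw [← h10, ← Nat.card_eq_fintype_card]
      congr 1
      rw [ConjAct.stabilizer_eq_centralizer]
      exact Nat.card_congr (Equiv.refl _)
    have hn : 0 < Fintype.card Ω := by omega
    have h12 : Fintype.card Ω * (Fintype.card Ω - 1) ≤ Fintype.card Ω *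
        (Finset.univ.filter (fun g : G => IsConj x g)).card := by
      calc _ ≤ Fintype.card G := hGcard
        _ = _ := horb.symm
        _ ≤ _ := by rw [mul_comm]; exact Nat.mul_le_mul_right _ hcent
    exact Nat.le_of_mul_le_mul_left h12 hn
  have he' : e ∈ D := Finset.mem_filter.mpr ⟨Finset.mem_univ _, he⟩
  rw [← hcl d hd] at he'
  exact ConjClasses.mk_eq_mk_iff_isConj.mpr (Finset.mem_filter.mp he').2

/-- Two primes in a semiregular nonabelian simple subgroup. -/
theorem exists_two_derangements [Finite G] [FaithfulSMul G Ω] [Nonempty Ω] (T : Subgroup G)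
    (hT : IsSimpleGroup T) (hTc : ¬ IsMulCommutative T)
    (hsr : ∀ x ∈ T, x ≠ 1 → ∀ ω : Ω, x • ω ≠ ω) :
    ∃ x y : G, (∀ ω : Ω, x • ω ≠ ω) ∧ (∀ ω : Ω, y • ω ≠ ω) ∧ ¬ IsConj x y := by
  classical
  haveI := hT
  have hcard : Nat.card T ≠ 1 := by
    intro h
    have := (Nat.card_eq_one_iff_unique.mp h).1
    obtain ⟨x, y, hxy⟩ := exists_pair_ne T
    exact hxy (Subsingleton.elim _ _)
  obtain ⟨p, hp, hpd⟩ := Nat.exists_prime_and_dvd hcard
  haveI : Fact p.Prime := ⟨hp⟩
  have h2 : ∃ q : ℕ, q.Prime ∧ q ≠ p ∧ q ∣ Nat.card T := by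
    by_contra hcon
    push Not at hcon
    apply not_isPGroup_of_simple hT hTc p
    rw [IsPGroup.iff_card]
    exact ⟨_, Nat.eq_prime_pow_of_unique_prime_dvd Nat.card_pos.ne' (fun {q} hq hqd => by
      by_contra hne
      exact hcon q hq hne hqd)⟩
  obtain ⟨q, hq, hqp, hqd⟩ := h2
  haveI : Fact q.Prime := ⟨hq⟩
  obtain ⟨x, hx⟩ := exists_prime_orderOf_dvd_card' p hpd
  obtain ⟨y, hy⟩ := exists_prime_orderOf_dvd_card' q hqd
  refine ⟨x, y, hsr x x.2 ?_, hsr y y.2 ?_, ?_⟩
  · intro h
    have : x = 1 := Subtype.ext h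
    rw [this, orderOf_one] at hx
    exact hp.one_lt.ne hx
  · intro h
    have : y = 1 := Subtype.ext h
    rw [this, orderOf_one] at hy
    exact hq.one_lt.ne hy
  · intro h
    obtain ⟨c, hc⟩ := isConj_iff.mp h
    apply hqp
    rw [← hy, ← hx, ← Subgroup.orderOf_coe, ← Subgroup.orderOf_coe, ← hc]
    have : c * (x : G) * c⁻¹ = MulAut.conj c (x : G) := by rw [MulAut.conj_apply]
    rw [this, MulEquiv.orderOf_eq]

theorem sharp_of_oneClass [Finite G] [Fintype Ω] [FaithfulSMul G Ω] (hΩ : 2 ≤ Fintype.card Ω)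
    (hprim : IsPreprimitive G Ω)
    (hnas : ¬ ∃ T : Subgroup G, T.Normal ∧ IsSimpleGroup T ∧ ¬ IsMulCommutative T ∧
      Subgroup.centralizer (T : Set G) = ⊥)
    (hone : ∀ x y : G, (∀ ω : Ω, x • ω ≠ ω) → (∀ ω : Ω, y • ω ≠ ω) → IsConj x y) :
    (∀ {a b c d : Ω} (_ : a ≠ b) (_ : c ≠ d), ∃ g : G, g • a = c ∧ g • b = d) ∧
      ∀ g : G, g ≠ 1 → ∀ a b : Ω, a ≠ b → g • a = a → g • b ≠ b := by
  classical
  haveI := hprim
  haveI hnt : Nontrivial Ω := Fintype.one_lt_card_iff_nontrivial.mp (by omega)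
  haveI hne : Nonempty Ω := inferInstance
  have hGtop : (⊤ : Subgroup G) ≠ ⊥ := by
    intro h
    obtain ⟨x, y, hxy⟩ := exists_pair_ne Ω
    obtain ⟨g, hg⟩ := MulAction.exists_smul_eq G x y
    have : g ∈ (⊤ : Subgroup G) := Subgroup.mem_top g
    rw [h, Subgroup.mem_bot] at this
    rw [this, one_smul] at hg
    exact hxy hg
  obtain ⟨N, hN, -, hN1, hmin⟩ := Cfsg.Agent.Solv.exists_minimal_normal (⊤ : Subgroup G) inferInstance hGtop
  haveI := hN
  haveI hNtr : IsPretransitive N Ω := transitive_of_normal hprim N hN hN1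
  obtain ⟨⟨d0, hd0N⟩, hd0⟩ := exists_derangement N Ω
  have hd0' : ∀ ω : Ω, d0 • ω ≠ ω := hd0
  have hDN : ∀ x : G, (∀ ω : Ω, x • ω ≠ ω) → x ∈ N := by
    intro x hx
    obtain ⟨c, hc⟩ := isConj_iff.mp (hone d0 x hd0' hx)
    rw [← hc]
    exact hN.conj_mem _ hd0N _
  by_cases hNab : IsMulCommutative N
  · have hcomm : ∀ x ∈ N, ∀ y ∈ N, x * y = y * x := fun x hx y hy =>
      Cfsg.Agent.Solv.comm_of_isMulCommutative hNab hx hy
    have hreg : ∀ x ∈ N, ∀ a : Ω, x • a = a → x = 1 := fun x hx a ha =>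
      eq_one_of_commute_transitive N x (fun k hk => hcomm k hk x hx) a ha
    -- conjugation is transitive on `N \ {1}`, by elements fixing `a`
    have hctr : ∀ a : Ω, ∀ x ∈ N, ∀ y ∈ N, x ≠ 1 → y ≠ 1 → ∃ g : G, g • a = a ∧ g * x * g⁻¹ = y := by
      intro a x hx y hy hx1 hy1
      obtain ⟨c, hc⟩ := isConj_iff.mp (hone x y (fun ω h => hx1 (hreg x hx ω h))
        (fun ω h => hy1 (hreg y hy ω h)))
      obtain ⟨⟨m, hm⟩, hma⟩ := MulAction.exists_smul_eq N (c • a) a
      refine ⟨m * c, ?_, ?_⟩
      · rw [mul_smul]; exact hma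
      · have : m * c * x * (m * c)⁻¹ = m * (c * x * c⁻¹) * m⁻¹ := by group
        rw [this, hc, hcomm m hm y hy]
        group
    have hst : ∀ a b c : Ω, b ≠ a → c ≠ a → ∃ g : G, g • a = a ∧ g • b = c := by
      intro a b c hb hc
      obtain ⟨⟨x, hx⟩, hxa⟩ := MulAction.exists_smul_eq N a b
      obtain ⟨⟨y, hy⟩, hya⟩ := MulAction.exists_smul_eq N a c
      have hxa' : x • a = b := hxa
      have hya' : y • a = c := hya
      obtain ⟨g, hg, hgx⟩ := hctr a x hx y hy (by rintro rfl; rw [one_smul] at hxa'; exact hb hxa'.symm)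
        (by rintro rfl; rw [one_smul] at hya'; exact hc hya'.symm)
      refine ⟨g, hg, ?_⟩
      rw [← hxa', ← hya', ← hgx, mul_smul, mul_smul]
      have : g⁻¹ • a = a := by rw [inv_smul_eq_iff, hg]
      rw [this]
    refine ⟨?_, ?_⟩
    · intro a b c d hab hcd
      obtain ⟨k, hk⟩ := MulAction.exists_smul_eq G a c
      obtain ⟨g, hg, hgb⟩ := hst c (k • b) d (by rw [← hk]; exact fun h => hab (smul_left_cancel k h).symm)
        hcd.symm
      exact ⟨g * k, by rw [mul_smul, hk, hg], by rw [mul_smul, hgb]⟩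
    · intro g hg1 a b hab hga hgb
      -- `n ∈ N` with `n a = b` commutes with `g`
      obtain ⟨⟨n, hn⟩, hna⟩ := MulAction.exists_smul_eq N a b
      have hna' : n • a = b := hna
      have hgn : g * n * g⁻¹ = n := by
        have h1 : (g * n * g⁻¹) * n⁻¹ ∈ N := N.mul_mem (hN.conj_mem _ hn _) (N.inv_mem hn)
        have h2 : ((g * n * g⁻¹) * n⁻¹) • b = b := by
          rw [mul_smul, mul_smul, mul_smul, ← hna', inv_smul_smul]
          have : g⁻¹ • a = a := by rw [inv_smul_eq_iff, hga]
          rw [this, hna', hgb]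
        exact mul_inv_eq_one.mp (hreg _ h1 b h2)
      have hn1 : n ≠ 1 := by
        rintro rfl
        rw [one_smul] at hna'
        exact hab hna'
      -- the map `x ↦ x (g x g⁻¹)⁻¹` is surjective
      let φ : N → N := fun x => ⟨(x : G) * (g * x * g⁻¹)⁻¹, N.mul_mem x.2 (N.inv_mem (hN.conj_mem _ x.2 _))⟩
      have hsurj : Function.Surjective φ := by
        rintro ⟨m, hm⟩
        have h3 : ¬ ∀ ω : Ω, (m * g) • ω ≠ ω := by
          intro h
          have h4 := hDN _ h
          have h5 : g ∈ N := by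
            have := N.mul_mem (N.inv_mem hm) h4
            rwa [inv_mul_cancel_left] at this
          exact hg1 (hreg g h5 a hga)
        push Not at h3
        obtain ⟨ω, hω⟩ := h3
        obtain ⟨⟨x, hx⟩, hxa⟩ := MulAction.exists_smul_eq N a ω
        have hxa' : x • a = ω := hxa
        refine ⟨⟨x, hx⟩, Subtype.ext ?_⟩
        change x * (g * x * g⁻¹)⁻¹ = m
        have h6 : x⁻¹ * m * (g * x * g⁻¹) ∈ N :=
          N.mul_mem (N.mul_mem (N.inv_mem hx) hm) (hN.conj_mem _ hx _)
        have h7 : (x⁻¹ * m * (g * x * g⁻¹)) • a = a := by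
          have : x⁻¹ * m * (g * x * g⁻¹) = x⁻¹ * (m * g) * x * g⁻¹ := by group
          rw [this, mul_smul]
          have h8 : g⁻¹ • a = a := by rw [inv_smul_eq_iff, hga]
          rw [h8, mul_smul, hxa', mul_smul, hω, ← hxa', inv_smul_smul]
        have h9 := hreg _ h6 a h7
        rw [mul_assoc] at h9
        rw [inv_mul_eq_one] at h9
        exact mul_inv_eq_iff_eq_mul.mpr h9
      have hinj : Function.Injective φ := Finite.injective_iff_surjective.mpr hsurj
      apply hn1
      have h10 : φ ⟨n, hn⟩ = φ 1 := by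
        apply Subtype.ext
        change n * (g * n * g⁻¹)⁻¹ = 1 * (g * 1 * g⁻¹)⁻¹
        rw [hgn]
        group
      exact congrArg Subtype.val (hinj h10)
  · exfalso
    obtain ⟨T, hT⟩ := exists_minComp N hN1 hmin hNab
    have hsemi : ¬ ∀ x ∈ T, x ≠ 1 → ∀ ω : Ω, x • ω ≠ ω := by
      intro hsr
      obtain ⟨x, y, hx, hy, hxy⟩ := exists_two_derangements T hT.simple hT.noncomm hsr
      exact hxy (hone x y hx hy)
    have hex : ∃ x ∈ T, x ≠ 1 ∧ ∃ ω : Ω, x • ω = ω := by
      by_contra hcon
      push Not at hcon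
      exact hsemi hcon
    by_cases hTN : T = N
    · have hTn : T.Normal := hTN ▸ hN
      have hC : Subgroup.centralizer (T : Set G) ≠ ⊥ := by
        intro h
        exact hnas ⟨T, hTn, hT.simple, hT.noncomm, h⟩
      haveI : (Subgroup.centralizer (T : Set G)).Normal := inferInstance
      haveI := transitive_of_normal hprim (Subgroup.centralizer (T : Set G)) inferInstance hC
      obtain ⟨x, hx, hx1, ω, hω⟩ := hex
      exact hx1 (eq_one_of_commute_transitive (Subgroup.centralizer (T : Set G)) x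
        (fun k hk => (Subgroup.mem_centralizer_iff.mp hk x hx).symm) ω hω)
    · obtain ⟨t, ht, htd⟩ := hT.exists_derangement (Ω := Ω)
      obtain ⟨g, hg, hgc⟩ := hT.exists_conj_ne hTN
      have hgT : MulAut.conj g • T ≠ ⊥ := by
        intro h
        apply hT.ne_bot
        rw [eq_bot_iff]
        intro x hx
        have := conj_mem_conj_smul (g := g) hx
        rw [h, Subgroup.mem_bot] at this
        rw [Subgroup.mem_bot]
        simpa using this
      obtain ⟨s, hs, hs1⟩ : ∃ s : G, s ∈ MulAut.conj g • T ∧ s ≠ 1 := by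
        by_contra hcon
        push Not at hcon
        exact hgT (by rw [eq_bot_iff]; intro x hx; exact Subgroup.mem_bot.mpr (hcon x hx))
      have hsc := hgc hs
      have hder := hT.derangement_mul hprim hex ht htd hsc
      obtain ⟨c, hc⟩ := isConj_iff.mp (hone t (t * s) htd hder)
      have hmem : t * s ∈ MulAut.conj c • T := by
        rw [← hc]; exact conj_mem_conj_smul ht
      have hinf := inf_centralizer_of_simple hT.simple hT.noncomm
      rcases hT.conj_eq_or_comm c with h | h
      · rw [h] at hmem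
        have hsT : s ∈ T := by
          have := T.mul_mem (T.inv_mem ht) hmem
          rwa [inv_mul_cancel_left] at this
        apply hs1
        have : s ∈ T ⊓ Subgroup.centralizer (T : Set G) := ⟨hsT, hsc⟩
        rwa [hinf, Subgroup.mem_bot] at this
      · have htc : t ∈ Subgroup.centralizer (T : Set G) := by
          have h1 : t * s ∈ Subgroup.centralizer (T : Set G) := by
            rw [Subgroup.mem_centralizer_iff]
            intro x hx
            exact h x hx _ hmem
          have := Subgroup.mul_mem _ h1 (Subgroup.inv_mem _ hsc)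
          rwa [mul_inv_cancel_right] at this
        have ht1 : t ∈ T ⊓ Subgroup.centralizer (T : Set G) := ⟨ht, htc⟩
        rw [hinf, Subgroup.mem_bot] at ht1
        obtain ⟨ω⟩ := hne
        apply htd ω
        rw [ht1, one_smul]

end Cfsg.Agent.ExtPrim
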