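import Mathlib

set_option autoImplicit false
set_option linter.style.haveILetI false
set_option linter.unusedSectionVars false

/-!
Irreducible linear maps over prime fields: the commutative algebra generated by an irreducible
commuting set of linear maps of a finite vector space `V` over `F_p` is a field with `|V|` elements.
Owner: helper58.
-/

namespace Cfsg.Agent.ExtPrim

open scoped IsMulCommutative

variable {p : ℕ} [hp : Fact p.Prime] {V : Type*} [AddCommGroup V] [Module (ZMod p) V] [Finite V]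

/-- a set of commuting endomorphisms -/
class CommSet (s : Set (Module.End (ZMod p) V)) : Prop where
  comm : ∀ a ∈ s, ∀ b ∈ s, a * b = b * a

instance commSet_singleton (X : Module.End (ZMod p) V) : CommSet {X} := ⟨by
  intro a ha b hb
  rw [Set.mem_singleton_iff] at ha hb
  rw [ha, hb]⟩

instance commSet_range {F : Type*} [CommGroup F] (ρ : F →* Module.End (ZMod p) V) :
    CommSet (Set.range ρ) := ⟨by
  rintro _ ⟨a, rfl⟩ _ ⟨b, rfl⟩
  rw [← map_mul, mul_comm, map_mul]⟩

/-- the subalgebra generated by a set of endomorphisms -/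
abbrev alg (s : Set (Module.End (ZMod p) V)) : Subalgebra (ZMod p) (Module.End (ZMod p) V) :=
  Algebra.adjoin (ZMod p) s

instance alg_comm (s : Set (Module.End (ZMod p) V)) [hs : CommSet s] : IsMulCommutative (alg s) :=
  Algebra.isMulCommutative_adjoin _ hs.comm

theorem commute_of_mem_alg {s : Set (Module.End (ZMod p) V)} [CommSet s]
    {f g : Module.End (ZMod p) V} (hf : f ∈ alg s) (hg : g ∈ alg s) :
    f * g = g * f :=
  congrArg Subtype.val ((alg_comm s).is_comm.comm (⟨f, hf⟩ : alg s) ⟨g, hg⟩)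

/-- `s` leaves no proper nontrivial subspace invariant -/
def IrrSet (s : Set (Module.End (ZMod p) V)) : Prop :=
  ∀ W : Submodule (ZMod p) V, (∀ X ∈ s, ∀ w ∈ W, X w ∈ W) → W = ⊥ ∨ W = ⊤

theorem ker_of_mem_alg [Nontrivial V] {s : Set (Module.End (ZMod p) V)} [CommSet s] (hX : IrrSet s)
    {f : Module.End (ZMod p) V} (hf : f ∈ alg s) (hf0 : f ≠ 0) : LinearMap.ker f = ⊥ := by
  rcases hX (LinearMap.ker f) (by
    intro X hX w hw
    rw [LinearMap.mem_ker] at hw ⊢
    have h1 := commute_of_mem_alg hf (Algebra.subset_adjoin hX)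
    have h2 := LinearMap.congr_fun h1 w
    rw [Module.End.mul_apply, Module.End.mul_apply, hw, map_zero] at h2
    exact h2) with h | h
  · exact h
  · exfalso
    apply hf0
    ext v
    have : v ∈ LinearMap.ker f := by rw [h]; trivial
    exact this

instance algFinite (s : Set (Module.End (ZMod p) V)) : Finite (alg s) := by
  have : Finite (Module.End (ZMod p) V) := by
    apply Finite.of_injective (fun f : Module.End (ZMod p) V => (f : V → V))
    exact DFunLike.coe_injective
  infer_instance

theorem alg_isField [Nontrivial V] {s : Set (Module.End (ZMod p) V)} [CommSet s] (hX : IrrSet s) :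
    IsField (alg s) := by
  haveI : IsDomain (alg s) := by
    haveI : NoZeroDivisors (alg s) := by
      constructor
      intro a b hab
      by_contra hcon
      push Not at hcon
      obtain ⟨ha, hb⟩ := hcon
      have ha' : (a : Module.End (ZMod p) V) ≠ 0 := fun h => ha (Subtype.ext h)
      have h1 := ker_of_mem_alg hX a.2 ha'
      apply hb
      apply Subtype.ext
      ext v
      have h2 : (a : Module.End (ZMod p) V) ((b : Module.End (ZMod p) V) v) = 0 := by
        have := LinearMap.congr_fun (congrArg Subtype.val hab) v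
        exact this
      have h3 : (b : Module.End (ZMod p) V) v ∈ LinearMap.ker (a : Module.End (ZMod p) V) := h2
      rw [h1, Submodule.mem_bot] at h3
      exact h3
    exact NoZeroDivisors.to_isDomain _
  exact Finite.isField_of_domain (alg s)

theorem card_alg [Nontrivial V] {s : Set (Module.End (ZMod p) V)} [CommSet s] (hX : IrrSet s) :
    Nat.card (alg s) = Nat.card V := by
  obtain ⟨v, hv⟩ := exists_ne (0 : V)
  let φ : alg s →ₗ[ZMod p] V :=
    { toFun := fun a => (a : Module.End (ZMod p) V) v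
      map_add' := fun a b => rfl
      map_smul' := fun c a => rfl }
  have hinj : LinearMap.ker φ = ⊥ := by
    rw [LinearMap.ker_eq_bot']
    intro a ha
    by_contra ha0
    have ha' : (a : Module.End (ZMod p) V) ≠ 0 := fun h => ha0 (Subtype.ext h)
    have h1 := ker_of_mem_alg hX a.2 ha'
    have h3 : v ∈ LinearMap.ker (a : Module.End (ZMod p) V) := ha
    rw [h1, Submodule.mem_bot] at h3
    exact hv h3
  have hsurj : LinearMap.range φ = ⊤ := by
    rcases hX (LinearMap.range φ) (by
      rintro X hX _ ⟨a, rfl⟩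
      exact ⟨(⟨X, Algebra.subset_adjoin hX⟩ : alg s) * a, rfl⟩) with h | h
    · exfalso
      apply hv
      have : φ 1 ∈ LinearMap.range φ := ⟨1, rfl⟩
      rw [h, Submodule.mem_bot] at this
      exact this
    · exact h
  exact Nat.card_congr (Equiv.ofBijective φ ⟨LinearMap.ker_eq_bot.mp hinj,
    LinearMap.range_eq_top.mp hsurj⟩)

/-- an abelian irreducible linear group is cyclic -/
theorem isCyclic_of_irr [Nontrivial V] {F : Type*} [CommGroup F] [Finite F]
    (ρ : F →* Module.End (ZMod p) V) (hinj : Function.Injective ρ) (hX : IrrSet (Set.range ρ)) :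
    IsCyclic F := by
  letI : Field (alg (Set.range ρ)) := (alg_isField hX).toField
  let f : F →* alg (Set.range ρ) :=
    { toFun := fun x => ⟨ρ x, Algebra.subset_adjoin ⟨x, rfl⟩⟩
      map_one' := Subtype.ext (map_one ρ)
      map_mul' := fun x y => Subtype.ext (map_mul ρ x y) }
  apply isCyclic_of_subgroup_isDomain f
  intro x y hxy
  exact hinj (congrArg Subtype.val hxy)

/-- if `X^(p^i) = X` then `d ∣ i` where `|V| = p^d` -/
theorem dvd_of_pow_eq [Nontrivial V] {X : Module.End (ZMod p) V} (hX : IrrSet {X}) {d : ℕ}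
    (hd : Nat.card V = p ^ d) {i : ℕ} (hi : X ^ p ^ i = X) : d ∣ i := by
  letI : Field (alg {X}) := (alg_isField hX).toField
  have hfr : Module.finrank (ZMod p) (alg {X}) = d := by
    have h1 := Module.natCard_eq_pow_finrank (K := ZMod p) (V := alg {X})
    rw [card_alg hX, hd, Nat.card_zmod] at h1
    exact (Nat.pow_right_injective hp.out.two_le h1).symm
  rw [← hfr]
  have h2 := FiniteField.orderOf_frobeniusAlgHom (ZMod p) (alg {X})
  rw [← h2]
  apply orderOf_dvd_of_pow_eq_one
  apply AlgHom.adjoin_ext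
  intro x hx
  rw [Set.mem_singleton_iff] at hx
  subst hx
  rw [AlgHom.coe_pow, FiniteField.coe_frobeniusAlgHom, pow_iterate, ZMod.card, AlgHom.one_apply]
  exact Subtype.ext hi

/-- an algebra endomorphism of `alg X` maps `X` to a `p`-power power -/
theorem exists_pow_of_algHom [Nontrivial V] {X : Module.End (ZMod p) V} (hX : IrrSet {X})
    (σ : alg {X} →ₐ[ZMod p] alg {X}) :
    ∃ j : ℕ, ((σ ⟨X, Algebra.subset_adjoin (Set.mem_singleton X)⟩ : alg {X}) :
      Module.End (ZMod p) V) = X ^ p ^ j := by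
  letI : Field (alg {X}) := (alg_isField hX).toField
  obtain ⟨j, hj⟩ := (FiniteField.bijective_frobeniusAlgHom_pow (ZMod p) (alg {X})).2 σ
  refine ⟨j, ?_⟩
  rw [← hj]
  change (((FiniteField.frobeniusAlgHom (ZMod p) (alg {X})) ^ (j : ℕ)) ⟨X, _⟩ : alg {X}).1 = _
  rw [AlgHom.coe_pow, FiniteField.coe_frobeniusAlgHom, pow_iterate, ZMod.card]
  rfl

/-- if `e X e⁻¹ = X^a` then `X^a = X^(p^j)` for some `j`. -/
theorem exists_pow_of_conj [Nontrivial V] {X : Module.End (ZMod p) V} (hX : IrrSet {X})
    (e e' : Module.End (ZMod p) V) (he : e * e' = 1) (he' : e' * e = 1) (a : ℕ)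
    (ha : e * X * e' = X ^ a) : ∃ j : ℕ, X ^ a = X ^ p ^ j := by
  let c : Module.End (ZMod p) V →ₐ[ZMod p] Module.End (ZMod p) V :=
    { toFun := fun f => e * f * e'
      map_one' := by rw [mul_one, he]
      map_mul' := by
        intro f g
        calc e * (f * g) * e' = e * f * 1 * g * e' := by rw [mul_one]; noncomm_ring
          _ = e * f * (e' * e) * g * e' := by rw [he']
          _ = e * f * e' * (e * g * e') := by noncomm_ring
      map_zero' := by rw [mul_zero, zero_mul]
      map_add' := by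
        intro f g
        rw [mul_add, add_mul]
      commutes' := by
        intro r
        rw [← Algebra.commutes, mul_assoc, he, mul_one] }
  have hc : ∀ f, c f = e * f * e' := fun f => rfl
  have hmem : ∀ f ∈ alg {X}, c f ∈ alg {X} := by
    intro f hf
    have h1 : alg {X} ≤ (alg {X}).comap c := by
      rw [Algebra.adjoin_le_iff]
      intro x hx
      rw [Set.mem_singleton_iff] at hx
      subst hx
      change c x ∈ alg {x}
      rw [hc, ha]
      exact (alg {x}).pow_mem (Algebra.subset_adjoin (Set.mem_singleton x)) a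
    exact h1 hf
  let σ : alg {X} →ₐ[ZMod p] alg {X} :=
    (c.comp (alg {X}).val).codRestrict (alg {X}) (fun x => hmem x x.2)
  obtain ⟨j, hj⟩ := exists_pow_of_algHom hX σ
  refine ⟨j, ?_⟩
  rw [← hj]
  exact ha.symm

/-! ### Group versions -/

section Grp

variable {N : Type*} [CommGroup N] [Finite N]

/-- the linear maps attached to automorphisms of an elementary abelian group -/
theorem exists_linear_rep (q : ℕ) [hq : Fact q.Prime] (hpow : ∀ x : N, x ^ q = 1) :
    ∃ (_ : Module (ZMod q) (Additive N)) (ρ : MulAut N →* Module.End (ZMod q) (Additive N)),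
      Function.Injective ρ ∧ (∀ (τ : MulAut N) (x : N), ρ τ (Additive.ofMul x) = Additive.ofMul (τ x)) := by
  let inst : Module (ZMod q) (Additive N) := AddCommGroup.zmodModule (n := q) (fun x => hpow _)
  let ρ : MulAut N →* Module.End (ZMod q) (Additive N) :=
    { toFun := fun τ => AddMonoidHom.toZModLinearMap q (MonoidHom.toAdditive τ.toMonoidHom)
      map_one' := by
        ext x
        rfl
      map_mul' := by
        intro h k
        ext x
        rfl }
  refine ⟨inst, ρ, ?_, fun τ x => rfl⟩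
  intro τ σ h
  ext x
  exact congrArg Additive.toMul (LinearMap.congr_fun h (Additive.ofMul x))

theorem irrSet_of_subgroup {q : ℕ} [hq : Fact q.Prime] [Module (ZMod q) (Additive N)]
    (ρ : MulAut N →* Module.End (ZMod q) (Additive N))
    (hρ : ∀ (τ : MulAut N) (x : N), ρ τ (Additive.ofMul x) = Additive.ofMul (τ x))
    (A : Set (MulAut N)) (hA : ∀ L : Subgroup N, (∀ τ ∈ A, ∀ l ∈ L, τ l ∈ L) → L = ⊥ ∨ L = ⊤) :
    IrrSet (ρ '' A) := by
  intro W hW
  let L : Subgroup N := AddSubgroup.toSubgroup W.toAddSubgroup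
  have hL : ∀ x : N, x ∈ L ↔ Additive.ofMul x ∈ W := fun x => Iff.rfl
  rcases hA L (by
    intro τ hτ l hl
    rw [hL] at hl ⊢
    rw [← hρ]
    exact hW _ ⟨τ, hτ, rfl⟩ _ hl) with h | h
  · left
    rw [eq_bot_iff]
    intro w hw
    have h1 : Additive.toMul w ∈ L := hw
    rw [h, Subgroup.mem_bot] at h1
    exact h1
  · right
    rw [eq_top_iff]
    intro w _
    have h1 : Additive.toMul w ∈ L := by rw [h]; trivial
    exact h1

theorem mulAut_dvd_of_pow_eq [Nontrivial N] (q : ℕ) [hq : Fact q.Prime] (hpow : ∀ x : N, x ^ q = 1)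
    {d : ℕ} (hd : Nat.card N = q ^ d) (τ : MulAut N)
    (hτ : ∀ L : Subgroup N, (∀ l ∈ L, τ l ∈ L) → L = ⊥ ∨ L = ⊤) {i : ℕ}
    (hi : τ ^ q ^ i = τ) : d ∣ i := by
  obtain ⟨inst, ρ, -, hρ⟩ := exists_linear_rep (N := N) q hpow
  have hirr := irrSet_of_subgroup ρ hρ {τ} (by
    intro L hL
    exact hτ L (fun l hl => hL τ rfl l hl))
  rw [Set.image_singleton] at hirr
  exact dvd_of_pow_eq (V := Additive N) hirr hd (by rw [← map_pow, hi])

theorem mulAut_exists_pow [Nontrivial N] (q : ℕ) [hq : Fact q.Prime] (hpow : ∀ x : N, x ^ q = 1)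
    (τ : MulAut N) (hτ : ∀ L : Subgroup N, (∀ l ∈ L, τ l ∈ L) → L = ⊥ ∨ L = ⊤) (σ : MulAut N)
    (a : ℕ) (ha : σ * τ * σ⁻¹ = τ ^ a) : ∃ j : ℕ, τ ^ a = τ ^ q ^ j := by
  obtain ⟨inst, ρ, hinj, hρ⟩ := exists_linear_rep (N := N) q hpow
  have hirr := irrSet_of_subgroup ρ hρ {τ} (by
    intro L hL
    exact hτ L (fun l hl => hL τ rfl l hl))
  rw [Set.image_singleton] at hirr
  obtain ⟨j, hj⟩ := exists_pow_of_conj (V := Additive N) hirr (ρ σ) (ρ σ⁻¹)
    (by rw [← map_mul, mul_inv_cancel, map_one]) (by rw [← map_mul, inv_mul_cancel, map_one]) a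
    (by rw [← map_mul, ← map_mul, ha, map_pow])
  refine ⟨j, hinj ?_⟩
  rw [map_pow, map_pow, hj]

theorem mulAut_isCyclic_of_irr [Nontrivial N] (q : ℕ) [hq : Fact q.Prime]
    (hpow : ∀ x : N, x ^ q = 1) {F : Type*} [CommGroup F] [Finite F] (f : F →* MulAut N)
    (hf : Function.Injective f)
    (hτ : ∀ L : Subgroup N, (∀ x : F, ∀ l ∈ L, f x l ∈ L) → L = ⊥ ∨ L = ⊤) : IsCyclic F := by
  obtain ⟨inst, ρ, hinj, hρ⟩ := exists_linear_rep (N := N) q hpow
  have hirr := irrSet_of_subgroup ρ hρ (Set.range f) (by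
    intro L hL
    exact hτ L (fun x l hl => hL (f x) ⟨x, rfl⟩ l hl))
  rw [← Set.range_comp] at hirr
  exact isCyclic_of_irr (V := Additive N) (ρ.comp f) (hinj.comp hf) hirr

end Grp

end Cfsg.Agent.ExtPrim
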